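import Groth.Agent.Lib.LocProp.FibreSmooth
import Groth.Agent.Lib.LocProp.BaseChangeDescent
import Mathlib.AlgebraicGeometry.Morphisms.SmoothFiber

/-!
A flat morphism of finite presentation is smooth at the points of its smooth fibres.
-/

universe u

open CategoryTheory CategoryTheory.Limits AlgebraicGeometry

namespace GrothLib.FibreLocus

variable {X Y : Scheme.{u}}

set_option backward.isDefEq.respectTransparency false in
theorem smooth_nhd_spec {R S : CommRingCat.{u}} (φ : R ⟶ S) [LocallyOfFinitePresentation (Spec.map φ)]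
    [Flat (Spec.map φ)] (x : Spec S) (h : Smooth ((Spec.map φ).fiberToSpecResidueField (Spec.map φ x))) :
    ∃ U : (Spec S).Opens, x ∈ U ∧ Smooth (U.ι ≫ Spec.map φ) := by
  rw [GrothLib.LocProp.smooth_nhd_iff, Scheme.Hom.mem_smoothLocus]
  have hfl : φ.hom.Flat := (HasRingHomProperty.Spec_iff (P := @Flat)).mp inferInstance
  have hfp : φ.hom.FinitePresentation :=
    (HasRingHomProperty.Spec_iff (P := @LocallyOfFinitePresentation)).mp inferInstance
  algebraize [φ.hom]
  let p := x.asIdeal.under R
  have hsm : Algebra.Smooth p.ResidueField (p.Fiber S) := by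
    rw [← RingHom.smooth_algebraMap, ← CommRingCat.hom_ofHom (algebraMap p.ResidueField (p.Fiber ↑S)),
      ← HasRingHomProperty.Spec_iff (P := @Smooth), ← MorphismProperty.arrow_mk_iso_iff (P := @Smooth)
      (Spec.fiberToSpecResidueFieldIso R S ⟨p, inferInstance⟩)]
    exact h
  let pp : PrimeSpectrum R := ⟨p, inferInstance⟩
  obtain ⟨q₀, hq₀⟩ : ∃ q₀ : PrimeSpectrum (p.Fiber S),
      q₀.asIdeal.comap (Algebra.TensorProduct.includeRight (R := R) (A := p.ResidueField) (B := S)) = x.asIdeal :=
    ⟨PrimeSpectrum.preimageEquivFiber R S pp ⟨x, PrimeSpectrum.ext rfl⟩,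
      congrArg (fun z => (z : PrimeSpectrum S).asIdeal)
        (congrArg Subtype.val ((PrimeSpectrum.preimageEquivFiber R S pp).symm_apply_apply ⟨x, PrimeSpectrum.ext rfl⟩))⟩
  have hflat : Module.Flat R (Localization.AtPrime
      (q₀.asIdeal.comap (Algebra.TensorProduct.includeRight (R := R) (A := p.ResidueField) (B := S)))) :=
    .trans R S _
  have h2 : Algebra.IsSmoothAt R
      (q₀.asIdeal.comap (Algebra.TensorProduct.includeRight (R := R) (A := p.ResidueField) (B := S))) :=
    GrothLib.LocProp.isSmoothAt_of_flat_of_fibre p q₀.asIdeal inferInstance hflat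
  have key : ∀ (I : Ideal S) [I.IsPrime], I = x.asIdeal → Algebra.IsSmoothAt R I → Algebra.IsSmoothAt R x.asIdeal := by
    rintro I _ rfl h; exact h
  have h3 := key _ hq₀ h2
  let := Localization.AtPrime.algebraOfLiesOver (x.asIdeal.under R) x.asIdeal
  refine (RingHom.FormallySmooth.respectsIso.arrow_mk_iso_iff (Scheme.arrowStalkMapSpecIso φ x)).mpr ?_
  have h4 : Algebra.FormallySmooth (Localization.AtPrime (x.asIdeal.under R)) (Localization.AtPrime x.asIdeal) :=
    Algebra.FormallySmooth.iff_restrictScalars.mp h3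
  exact RingHom.formallySmooth_algebraMap.mpr h4

set_option backward.isDefEq.respectTransparency false in
theorem smooth_nhd_affineBase {R : CommRingCat.{u}} (f : X ⟶ Spec R) [LocallyOfFinitePresentation f] [Flat f]
    (x : X) (h : Smooth (f.fiberToSpecResidueField (f x))) :
    ∃ U : X.Opens, x ∈ U ∧ Smooth (U.ι ≫ f) := by
  obtain ⟨i, x', rfl⟩ := X.affineCover.exists_eq x
  obtain ⟨φ, hφ⟩ := Spec.map_surjective (X.affineCover.f i ≫ f)
  have h' : Smooth ((X.affineCover.f i ≫ f).fiberToSpecResidueField ((X.affineCover.f i ≫ f) x')) := by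
    haveI : Smooth (pullback.snd f ((Spec R).fromSpecResidueField ((X.affineCover.f i ≫ f) x'))) := h
    rw [Scheme.Hom.fiberToSpecResidueField, ← pullbackRightPullbackFstIso_inv_snd_snd]
    infer_instance
  haveI : LocallyOfFinitePresentation (Spec.map φ) := hφ ▸ inferInstance
  haveI : Flat (Spec.map φ) := hφ ▸ inferInstance
  obtain ⟨U, hU, hUs⟩ := smooth_nhd_spec φ x' (hφ.symm ▸ h')
  refine ⟨(X.affineCover.f i) ''ᵁ U, ⟨x', hU, rfl⟩, ?_⟩
  rw [← Scheme.Hom.isoImage_inv_ι, Category.assoc, Category.assoc,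
    MorphismProperty.cancel_left_of_respectsIso @Smooth, ← hφ]
  exact hUs

/-- A flat morphism of finite presentation is smooth near the points of its smooth fibres. -/
theorem smooth_nhd_of_smooth_fibre (f : X ⟶ Y) [LocallyOfFinitePresentation f] [Flat f] (x : X)
    (h : Smooth (f.fiberToSpecResidueField (f x))) :
    ∃ U : X.Opens, x ∈ U ∧ Smooth (U.ι ≫ f) := by
  obtain ⟨i, y, hy⟩ := Y.affineCover.exists_eq (f x)
  obtain ⟨x', hx', hx''⟩ := Scheme.Pullback.exists_preimage_pullback (f := f) (g := Y.affineCover.f i) x y hy.symm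
  have h' : Smooth ((pullback.snd f (Y.affineCover.f i)).fiberToSpecResidueField
      (pullback.snd f (Y.affineCover.f i) x')) := by
    have e : f x = Y.affineCover.f i (pullback.snd f (Y.affineCover.f i) x') := by rw [hx'', hy]
    have hh : Smooth (f.fiberToSpecResidueField (Y.affineCover.f i (pullback.snd f (Y.affineCover.f i) x'))) := e ▸ h
    exact MorphismProperty.of_isPullback
      (isPullback_fiberToSpecResidueField_of_isPullback (IsPullback.of_hasPullback _ _) _) hh
  obtain ⟨U, hU, hUs⟩ := @smooth_nhd_affineBase _ _ (pullback.snd f (Y.affineCover.f i))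
    (MorphismProperty.pullback_snd _ _ inferInstance) (MorphismProperty.pullback_snd _ _ inferInstance) x' h'
  obtain ⟨W, hW, hWs⟩ := GrothLib.LocProp.smooth_nhd_of_baseChange f (Y.affineCover.f i) x'
    (Flat.stalkMap _ _) ⟨U, hU, hUs⟩
  exact ⟨W, hx' ▸ hW, hWs⟩

end GrothLib.FibreLocus
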