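import Groth.Agent.Lib.FibreLocus.Field
import Groth.Agent.Lib.FibreLocus.SmoothPoint
import Groth.Agent.Lib.FibreFlat.Fibrewise
import Groth.Agent.Lib.FibreFlat.OpenScheme
import Groth.Agent.Lib.EtSite.RadicialEtale
import Groth.Agent.Lib.AlgSp.FpqcProps
import Groth.Agent.Lib.EtSite.FpqcDescent
import Mathlib.AlgebraicGeometry.Morphisms.LocalFlatDescent
import Mathlib.AlgebraicGeometry.ZariskisMainTheorem

/-!
Loci where a homomorphism of group schemes has a fibrewise property.
-/

set_option backward.isDefEq.respectTransparency false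

universe u

open CategoryTheory CategoryTheory.Limits MonoidalCategory CartesianMonoidalCategory MonObj GrpObj
open AlgebraicGeometry

namespace GrothLib.FibreLocus

variable {S : Scheme.{u}} {G H : Over S}


theorem isPullback_map_left (u : G ⟶ H) {T : Scheme.{u}} (k : T ⟶ S) :
    IsPullback ((Over.pullback k).map u).left (pullback.fst G.hom k) (pullback.fst H.hom k) u.left := by
  have h1 : ((Over.pullback k).map u).left ≫ pullback.snd H.hom k = pullback.snd G.hom k := pullback.lift_snd _ _ _
  have h2 : ((Over.pullback k).map u).left ≫ pullback.fst H.hom k = pullback.fst G.hom k ≫ u.left :=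
    pullback.lift_fst _ _ _
  refine IsPullback.of_right ?_ h2 (IsPullback.of_hasPullback H.hom k).flip
  rw [h1, Over.w u]
  exact (IsPullback.of_hasPullback G.hom k).flip

/-- The map of fibres of a morphism over the base. -/
theorem prop_fibre_iff {P : MorphismProperty Scheme.{u}} [P.IsStableUnderBaseChange] (u : G ⟶ H) (s : S) :
    P (pullback.snd u.left (H.hom.fiberι s)) ↔ P ((Over.pullback (S.fromSpecResidueField s)).map u).left := by
  haveI : P.RespectsIso := MorphismProperty.IsStableUnderBaseChange.respectsIso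
  have sq := (isPullback_map_left u (S.fromSpecResidueField s)).flip
  have h := P.cancel_left_of_respectsIso sq.isoPullback.hom
    (pullback.snd u.left (pullback.fst H.hom (S.fromSpecResidueField s)))
  rw [sq.isoPullback_hom_snd] at h
  exact h.symm

variable [GrpObj G] [GrpObj H] (u : G ⟶ H) [IsMonHom u]

/-- The property on a neighbourhood of a point gives it on the whole fibre. -/
theorem fibre_of_nhd (P : MorphismProperty Scheme.{u}) [P.IsStableUnderBaseChange] [IsZariskiLocalAtSource P]
    [P.DescendsAlong (@Surjective ⊓ @Flat ⊓ @QuasiCompact)] (x : G.left) (W : G.left.Opens) (hx : x ∈ W)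
    (hW : P (W.ι ≫ u.left)) (hG : LocallyOfFiniteType (G.hom.fiberToSpecResidueField (G.hom x))) :
    P ((Over.pullback (S.fromSpecResidueField (G.hom x))).map u).left := by
  set k := S.fromSpecResidueField (G.hom x)
  haveI : LocallyOfFiniteType ((Over.pullback k).obj G).hom := hG
  letI : GrpObj ((Over.pullback k).obj G) := Functor.grpObjObj
  letI : GrpObj ((Over.pullback k).obj H) := Functor.grpObjObj
  refine prop_of_nhd P ((Over.pullback k).map u) (pullback.fst G.hom k ⁻¹ᵁ W) ⟨G.hom.asFiber x, ?_⟩ ?_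
  · show G.hom.fiberι (G.hom x) (G.hom.asFiber x) ∈ W
    rw [G.hom.fiberι_asFiber]
    exact hx
  · exact P.of_isPullback ((isPullback_morphismRestrict (pullback.fst G.hom k) W).paste_vert
      (isPullback_map_left u k).flip) hW

/-- The locus in the base and the locus in the source. -/
theorem locus_of_criteria (P : MorphismProperty Scheme.{u}) [P.IsStableUnderBaseChange] [IsZariskiLocalAtSource P]
    [P.DescendsAlong (@Surjective ⊓ @Flat ⊓ @QuasiCompact)]
    (hG : ∀ s : S, LocallyOfFiniteType (G.hom.fiberToSpecResidueField s))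
    (Z : Set G.left) (hZ : IsOpen Z) (h₁ : ∀ x ∈ Z, ∃ W : G.left.Opens, x ∈ W ∧ P (W.ι ≫ u.left))
    (h₂ : ∀ x, P (pullback.snd u.left (H.hom.fiberι (G.hom x))) → x ∈ Z) :
    IsOpen {s : S | P ((Over.pullback (S.fromSpecResidueField s)).map u).left} ∧
    Z = G.hom.base ⁻¹' {s : S | P ((Over.pullback (S.fromSpecResidueField s)).map u).left} := by
  have key : ∀ x, x ∈ Z ↔ P ((Over.pullback (S.fromSpecResidueField (G.hom x))).map u).left := fun x =>
    ⟨fun hx => by
      obtain ⟨W, hxW, hW⟩ := h₁ x hx
      exact fibre_of_nhd u P x W hxW hW (hG _), fun h => h₂ x ((prop_fibre_iff u _).mpr h)⟩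
  refine ⟨?_, Set.ext key⟩
  let e : S ⟶ G.left := η[G].left
  have he : e ≫ G.hom = 𝟙 S := Over.w η[G]
  have hset : {s : S | P ((Over.pullback (S.fromSpecResidueField s)).map u).left} = e ⁻¹' Z := by
    ext s
    have hs : G.hom (e s) = s := congrArg (fun k : S ⟶ S => k s) he
    refine Iff.trans ?_ (key (e s)).symm
    rw [hs]
    rfl
  rw [hset]
  exact hZ.preimage e.continuous

theorem lfp_left [LocallyOfFinitePresentation G.hom] [LocallyOfFiniteType H.hom] :
    LocallyOfFinitePresentation u.left :=
  GrothLib.DiagGrp.lfp_of_comp_of_lft u.left H.hom (by rw [Over.w u]; infer_instance) inferInstance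

omit [GrpObj G] [GrpObj H] [IsMonHom u] in
theorem flat_at_of_fibre [Flat G.hom] [LocallyOfFinitePresentation G.hom] [LocallyOfFiniteType H.hom] (x : G.left)
    (h : Flat (pullback.snd u.left (H.hom.fiberι (G.hom x)))) : (u.left.stalkMap x).hom.Flat := by
  haveI : LocallyOfFinitePresentation (u.left ≫ H.hom) := by rw [Over.w u]; infer_instance
  haveI : Flat (u.left ≫ H.hom) := by rw [Over.w u]; infer_instance
  have hx : H.hom (u.left x) = G.hom x := by rw [← Scheme.Hom.comp_apply, Over.w u]
  rw [← hx] at h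
  refine ((GrothLib.FibreFlat.critere_par_fibres u.left H.hom x).mp ⟨Flat.stalkMap (u.left ≫ H.hom) x, ?_⟩).2
  rw [← GrothLib.FibreFlat.flat_fiberMap_stalkMap_iff u.left H.hom (H.hom (u.left x))
    ((u.left ≫ H.hom).asFiber x) x ((u.left ≫ H.hom).fiberι_asFiber x)]
  haveI : Flat (MoreMor.fiberMap u.left H.hom (H.hom (u.left x))) :=
    (GrothLib.FibreFlat.prop_fiberMap_iff u.left H.hom _).mpr h
  exact Flat.stalkMap _ _

omit [GrpObj G] [GrpObj H] [IsMonHom u] in
theorem unramified_at_of_fibre [LocallyOfFiniteType u.left] (x : G.left)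
    (h : FormallyUnramified (pullback.snd u.left (H.hom.fiberι (G.hom x)))) :
    (u.left.stalkMap x).hom.FormallyUnramified := by
  have hx : H.hom (u.left x) = G.hom x := by rw [← Scheme.Hom.comp_apply, Over.w u]
  rw [← hx] at h
  haveI : FormallyUnramified (MoreMor.fiberMap u.left H.hom (H.hom (u.left x))) :=
    (GrothLib.FibreFlat.prop_fiberMap_iff u.left H.hom _).mpr h
  exact GrothLib.FibreFlat.formallyUnramified_stalkMap_of_fibrewise u.left H.hom x
    ((u.left ≫ H.hom).asFiber x) ((u.left ≫ H.hom).fiberι_asFiber x) (FormallyUnramified.stalkMap _ _)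

omit [GrpObj G] [GrpObj H] [IsMonHom u] in
/-- The fibre over a point of the target is a base change of the map of fibres over the base. -/
theorem prop_fiber_of_fibre {P : MorphismProperty Scheme.{u}} [P.IsStableUnderBaseChange] (x : G.left)
    (h : P (pullback.snd u.left (H.hom.fiberι (G.hom x)))) : P (u.left.fiberToSpecResidueField (u.left x)) := by
  have hx : H.hom (u.left x) = G.hom x := by rw [← Scheme.Hom.comp_apply, Over.w u]
  rw [← hx] at h
  let y := u.left x
  let j : Spec (H.left.residueField y) ⟶ H.hom.fiber (H.hom y) :=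
    pullback.lift (H.left.fromSpecResidueField y) (Spec.map (H.hom.residueFieldMap y)) (by simp)
  have hj : j ≫ H.hom.fiberι (H.hom y) = H.left.fromSpecResidueField y := pullback.lift_fst ..
  show P (pullback.snd u.left (H.left.fromSpecResidueField y))
  rw [← hj]
  haveI : P.RespectsIso := MorphismProperty.IsStableUnderBaseChange.respectsIso
  have e := P.arrow_mk_iso_iff (Arrow.isoMk' (pullback.snd (pullback.snd u.left (H.hom.fiberι (H.hom y))) j)
    (pullback.snd u.left (j ≫ H.hom.fiberι (H.hom y))) (pullbackLeftPullbackSndIso u.left (H.hom.fiberι (H.hom y)) j)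
    (Iso.refl _) ((pullbackLeftPullbackSndIso_hom_snd _ _ _).trans (Category.comp_id _).symm))
  exact e.mp (P.pullback_snd _ _ h)

theorem lft_fibres [LocallyOfFiniteType G.hom] (s : S) : LocallyOfFiniteType (G.hom.fiberToSpecResidueField s) :=
  MorphismProperty.pullback_snd _ _ inferInstance

theorem flat_locus [Flat G.hom] [LocallyOfFinitePresentation G.hom] [LocallyOfFiniteType H.hom] :
    IsOpen {s : S | Flat ((Over.pullback (S.fromSpecResidueField s)).map u).left} ∧
    {x : G.left | (u.left.stalkMap x).hom.Flat} =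
      G.hom.base ⁻¹' {s : S | Flat ((Over.pullback (S.fromSpecResidueField s)).map u).left} := by
  haveI := lfp_left u
  haveI := GrothLib.AlgSp.descendsAlong_flat_fpqc.{u}
  refine locus_of_criteria u @Flat (fun s => lft_fibres s) _ (GrothLib.FibreFlat.isOpen_flat_stalkMap u.left)
    (fun x hx => ⟨⟨_, GrothLib.FibreFlat.isOpen_flat_stalkMap u.left⟩, hx, ?_⟩) (fun x h => flat_at_of_fibre u x h)
  exact Flat.of_stalkMap _ fun z =>
    (GrothLib.LocProp.stalkMap_comp_ι_iff RingHom.Flat.respectsIso _ u.left z).mpr z.2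

theorem smooth_locus [Flat G.hom] [LocallyOfFinitePresentation G.hom] [LocallyOfFiniteType H.hom] :
    IsOpen {s : S | Smooth ((Over.pullback (S.fromSpecResidueField s)).map u).left} ∧
    {x : G.left | ∃ W : G.left.Opens, x ∈ W ∧ Smooth (W.ι ≫ u.left)} =
      G.hom.base ⁻¹' {s : S | Smooth ((Over.pullback (S.fromSpecResidueField s)).map u).left} := by
  haveI := lfp_left u
  refine locus_of_criteria u @Smooth (fun s => lft_fibres s) _ ?_ (fun x hx => hx) fun x h => ?_
  · exact isOpen_iff_forall_mem_open.mpr fun x ⟨W, hx, hW⟩ => ⟨W, fun y hy => ⟨W, hy, hW⟩, W.2, hx⟩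
  let X₀ : G.left.Opens := ⟨_, GrothLib.FibreFlat.isOpen_flat_stalkMap u.left⟩
  have hx₀ : x ∈ X₀ := flat_at_of_fibre u x (by haveI := h; infer_instance)
  haveI : Flat (X₀.ι ≫ u.left) := Flat.of_stalkMap _ fun z =>
    (GrothLib.LocProp.stalkMap_comp_ι_iff RingHom.Flat.respectsIso _ u.left z).mpr z.2
  haveI hs : Smooth (u.left.fiberToSpecResidueField (u.left x)) := prop_fiber_of_fibre u x h
  haveI : Smooth (pullback.snd u.left (H.left.fromSpecResidueField ((X₀.ι ≫ u.left) ⟨x, hx₀⟩))) := hs
  obtain ⟨U, hU, hUs⟩ := smooth_nhd_of_smooth_fibre (X₀.ι ≫ u.left) ⟨x, hx₀⟩ (by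
    rw [Scheme.Hom.fiberToSpecResidueField, ← pullbackRightPullbackFstIso_inv_snd_snd]
    infer_instance)
  refine ⟨X₀.ι ''ᵁ U, ⟨⟨x, hx₀⟩, hU, rfl⟩, ?_⟩
  rw [← Scheme.Hom.isoImage_inv_ι, Category.assoc, Category.assoc,
    MorphismProperty.cancel_left_of_respectsIso @Smooth]
  exact hUs

theorem etale_locus [Flat G.hom] [LocallyOfFinitePresentation G.hom] [LocallyOfFiniteType H.hom] :
    IsOpen {s : S | Etale ((Over.pullback (S.fromSpecResidueField s)).map u).left} ∧
    {x : G.left | ∃ W : G.left.Opens, x ∈ W ∧ Etale (W.ι ≫ u.left)} =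
      G.hom.base ⁻¹' {s : S | Etale ((Over.pullback (S.fromSpecResidueField s)).map u).left} := by
  haveI := lfp_left u
  refine locus_of_criteria u @Etale (fun s => lft_fibres s) _ ?_ (fun x hx => hx) fun x h => ?_
  · exact isOpen_iff_forall_mem_open.mpr fun x ⟨W, hx, hW⟩ => ⟨W, fun y hy => ⟨W, hy, hW⟩, W.2, hx⟩
  haveI := h
  exact (GrothLib.LocProp.etale_nhd_iff u.left x).mpr
    ⟨flat_at_of_fibre u x inferInstance, unramified_at_of_fibre u x inferInstance⟩

theorem unramified_locus [LocallyOfFinitePresentation u.left]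
    (hG : ∀ s : S, LocallyOfFiniteType (G.hom.fiberToSpecResidueField s)) :
    IsOpen {s : S | FormallyUnramified ((Over.pullback (S.fromSpecResidueField s)).map u).left} ∧
    {x : G.left | ∃ W : G.left.Opens, x ∈ W ∧ FormallyUnramified (W.ι ≫ u.left)} =
      G.hom.base ⁻¹' {s : S | FormallyUnramified ((Over.pullback (S.fromSpecResidueField s)).map u).left} := by
  haveI : IsZariskiLocalAtSource (@FormallyUnramified : MorphismProperty Scheme.{u}) :=
    HasRingHomProperty.instIsZariskiLocalAtSource
  refine locus_of_criteria u @FormallyUnramified hG _ ?_ (fun x hx => hx) fun x h => ?_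
  · exact isOpen_iff_forall_mem_open.mpr fun x ⟨W, hx, hW⟩ => ⟨W, fun y hy => ⟨W, hy, hW⟩, W.2, hx⟩
  exact (GrothLib.LocProp.formallyUnramified_nhd_iff u.left x).mpr (unramified_at_of_fibre u x h)

theorem isOpenImmersion_over [UniversallyInjective u.left] [Flat G.hom] [LocallyOfFinitePresentation G.hom]
    [LocallyOfFiniteType H.hom] :
    IsOpen {s : S | IsOpenImmersion ((Over.pullback (S.fromSpecResidueField s)).map u).left} ∧
    ∀ W : S.Opens, (W : Set S) ⊆ {s : S | IsOpenImmersion ((Over.pullback (S.fromSpecResidueField s)).map u).left} →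
      IsOpenImmersion ((G.hom ⁻¹ᵁ W).ι ≫ u.left) := by
  have hiff : ∀ s : S, IsOpenImmersion ((Over.pullback (S.fromSpecResidueField s)).map u).left ↔
      Etale ((Over.pullback (S.fromSpecResidueField s)).map u).left := fun s => by
    refine ⟨fun h => inferInstance, fun h => ?_⟩
    haveI : UniversallyInjective ((Over.pullback (S.fromSpecResidueField s)).map u).left :=
      MorphismProperty.of_isPullback (isPullback_map_left u _).flip inferInstance
    exact GrothLib.EtSite.isOpenImmersion_of_etale_universallyInjective _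
  obtain ⟨hopen, hZ⟩ := etale_locus u
  refine ⟨by simp only [hiff]; exact hopen, fun W hW => ?_⟩
  haveI : Etale ((G.hom ⁻¹ᵁ W).ι ≫ u.left) := by
    have hx : ∀ z : (G.hom ⁻¹ᵁ W : Scheme.{u}), ∃ V : G.left.Opens, z.1 ∈ V ∧ Etale (V.ι ≫ u.left) := fun z => by
      show z.1 ∈ {x : G.left | ∃ W : G.left.Opens, x ∈ W ∧ Etale (W.ι ≫ u.left)}
      rw [hZ]
      exact (hiff _).mp (hW z.2)
    choose V hzV hV using hx
    rw [IsZariskiLocalAtSource.iff_of_iSup_eq_top (P := @Etale) (fun z => (G.hom ⁻¹ᵁ W).ι ⁻¹ᵁ V z)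
      (top_le_iff.mp fun z _ => TopologicalSpace.Opens.mem_iSup.mpr ⟨z, hzV z⟩)]
    intro z
    haveI := hV z
    rw [← morphismRestrict_ι_assoc]
    infer_instance
  haveI : UniversallyInjective ((G.hom ⁻¹ᵁ W).ι ≫ u.left) :=
    MorphismProperty.comp_mem @UniversallyInjective _ _ inferInstance inferInstance
  exact GrothLib.EtSite.isOpenImmersion_of_etale_universallyInjective _

theorem lqf_locus [LocallyOfFiniteType u.left]
    (hG : ∀ s : S, LocallyOfFiniteType (G.hom.fiberToSpecResidueField s)) :
    IsOpen {s : S | LocallyQuasiFinite ((Over.pullback (S.fromSpecResidueField s)).map u).left} ∧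
    {x : G.left | ∃ W : G.left.Opens, x ∈ W ∧ LocallyQuasiFinite (W.ι ≫ u.left)} =
      G.hom.base ⁻¹' {s : S | LocallyQuasiFinite ((Over.pullback (S.fromSpecResidueField s)).map u).left} := by
  have hlft : ∀ s : S, LocallyOfFiniteType ((Over.pullback (S.fromSpecResidueField s)).map u).left := fun s =>
    MorphismProperty.of_isPullback (isPullback_map_left u _).flip inferInstance
  haveI := GrothLib.EtSite.descendsAlong_locallyQuasiFinite.{u}
  haveI : IsZariskiLocalAtSource (@LocallyOfFiniteType : MorphismProperty Scheme.{u}) :=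
    HasRingHomProperty.instIsZariskiLocalAtSource
  haveI : IsZariskiLocalAtSource (@LocallyQuasiFinite : MorphismProperty Scheme.{u}) :=
    HasRingHomProperty.instIsZariskiLocalAtSource
  have h := locus_of_criteria u (@LocallyQuasiFinite ⊓ @LocallyOfFiniteType) hG
    {x : G.left | ∃ W : G.left.Opens, x ∈ W ∧ LocallyQuasiFinite (W.ι ≫ u.left)}
    (isOpen_iff_forall_mem_open.mpr fun x ⟨W, hx, hW⟩ => ⟨W, fun y hy => ⟨W, hy, hW⟩, W.2, hx⟩)
    (fun x ⟨W, hx, hW⟩ => ⟨W, hx, hW, inferInstance⟩) fun x h => by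
      haveI : LocallyQuasiFinite (u.left.fiberToSpecResidueField (u.left x)) :=
        prop_fiber_of_fibre (P := @LocallyQuasiFinite) u x h.1
      have hqf : u.left.QuasiFiniteAt x := by
        rw [Scheme.Hom.quasiFiniteAt_iff_isOpen_singleton_asFiber]
        haveI : DiscreteTopology (u.left.fiber (u.left x)) := by
          have hd := (u.left.fiberToSpecResidueField (u.left x)).isDiscrete_preimage
            (s := Set.univ) (by simp [Set.subsingleton_of_subsingleton.isDiscrete])
          simpa [isDiscrete_univ_iff] using hd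
        exact isOpen_discrete _
      refine ⟨u.left.quasiFiniteLocus, hqf, ?_⟩
      rw [← Scheme.Hom.quasiFiniteLocus_eq_top_iff, Scheme.Hom.quasiFiniteLocus_comp, eq_top_iff]
      exact fun z _ => z.2
  have e : {s : S | (@LocallyQuasiFinite ⊓ @LocallyOfFiniteType : MorphismProperty Scheme.{u})
      ((Over.pullback (S.fromSpecResidueField s)).map u).left} =
      {s : S | LocallyQuasiFinite ((Over.pullback (S.fromSpecResidueField s)).map u).left} :=
    Set.ext fun s => ⟨fun h => h.1, fun h => ⟨h, hlft s⟩⟩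
  rw [e] at h
  exact h

end GrothLib.FibreLocus
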