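import Groth.Agent.Lib.FibreLocus.Hom
import Groth.Agent.Lib.MaxOpen.FlatFP
import Groth.Agent.Lib.GrpSchField.Shear
import Groth.Agent.Lib.FFDesc.Basic

/-!
Translating flatness and finite presentation of homomorphisms and orbit maps over a one point base.
-/

set_option backward.isDefEq.respectTransparency false

universe u

open CategoryTheory CategoryTheory.Limits MonoidalCategory CartesianMonoidalCategory MonObj GrpObj
open AlgebraicGeometry

namespace GrothLib.FibreLocus

theorem flat_fromSpecStalk_comp {X Y : Scheme.{u}} (φ : X ⟶ Y) (x : X) (h : (φ.stalkMap x).hom.Flat) :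
    Flat (X.fromSpecStalk x ≫ φ) := by
  rw [← Scheme.SpecMap_stalkMap_fromSpecStalk]
  haveI : Flat (Spec.map (φ.stalkMap x)) := Flat.SpecMap_iff.mpr h
  haveI := GrothLib.FFDesc.flat_fromSpecStalk' Y (φ x)
  infer_instance

/-- Flatness at a point moves along flat translations. -/
theorem flat_stalkMap_translate {X Y X₂ Y₂ : Scheme.{u}} {φ : X ⟶ Y} {φ₂ : X₂ ⟶ Y₂} {p : X₂ ⟶ X} {q : Y₂ ⟶ Y}
    (sq : IsPullback φ₂ p q φ) {T : Y₂ ⟶ Y} {θ : X₂ ⟶ X} [Flat θ] [Flat T] (e : θ ≫ φ = φ₂ ≫ T) (z : X₂)
    (h : (φ.stalkMap (p z)).hom.Flat) : (φ.stalkMap (θ z)).hom.Flat := by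
  let a := X.fromSpecStalk (p z)
  haveI : Flat (a ≫ φ) := flat_fromSpecStalk_comp φ (p z) h
  haveI : Flat a := by
    haveI : Flat (X.fromSpecStalk (p z) ≫ 𝟙 X) := flat_fromSpecStalk_comp (𝟙 X) (p z) (Flat.stalkMap _ _)
    simpa using this
  let c := pullback.fst p a
  haveI : Flat (c ≫ φ₂) := by
    have big := (IsPullback.of_hasPullback p a).flip.paste_vert (show IsPullback p φ₂ φ q from sq.flip)
    exact MorphismProperty.of_isPullback big ‹Flat (a ≫ φ)›
  haveI : Flat ((c ≫ θ) ≫ φ) := by
    rw [Category.assoc, e, ← Category.assoc]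
    infer_instance
  obtain ⟨z', hz', -⟩ := Scheme.Pullback.exists_preimage_pullback (f := p) (g := a) z
    (IsLocalRing.closedPoint _) Scheme.fromSpecStalk_closedPoint.symm
  have := GrothLib.LocProp.flat_descends (c ≫ θ) φ z' (Flat.stalkMap _ _) (Flat.stalkMap _ _)
  rwa [Scheme.Hom.comp_apply, show c z' = z from hz'] at this

variable {S : Scheme.{u}} [Subsingleton S]

theorem exists_pair {A B : Over S} (a : A.left) (b : B.left) :
    ∃ w : (A ⊗ B).left, (fst A B).left w = a ∧ (snd A B).left w = b :=
  Scheme.Pullback.exists_preimage_pullback a b (Subsingleton.elim _ _)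

section group

variable {G H : Over S} [GrpObj G] [GrpObj H] (u : G ⟶ H) [IsMonHom u]

omit [GrpObj H] [IsMonHom u] in
theorem exists_shift {G : Over S} [GrpObj G] (x g : G.left) :
    ∃ z : (G ⊗ G).left, (fst G G).left z = x ∧ (fst G G * snd G G).left z = g := by
  obtain ⟨w, hw₁, hw₂⟩ := exists_pair x g
  refine ⟨(lift (fst G G) ((fst G G)⁻¹ * snd G G)).left w, ?_, ?_⟩
  · rw [← Scheme.Hom.comp_apply, ← Over.comp_left, lift_fst, hw₁]
  · have e : lift (fst G G) ((fst G G)⁻¹ * snd G G) ≫ (fst G G * snd G G) = snd G G := by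
      simp [MonObj.comp_mul]
    rw [← Scheme.Hom.comp_apply, ← Over.comp_left, e, hw₂]

/-- Translations are flat when the group is. -/
theorem flat_translate {A B : Over S} [GrpObj A] [Flat B.hom] (m : B ⟶ A) :
    Flat (fst A B * (snd A B ≫ m)).left := by
  haveI : IsIso (GrothLib.MaxOpen.shearBy m).hom.left :=
    inferInstanceAs (IsIso ((Over.forget S).map (GrothLib.MaxOpen.shearBy m).hom))
  haveI : Flat (fst A B).left := inferInstanceAs (Flat (pullback.fst A.hom B.hom))
  have e : (GrothLib.MaxOpen.shearBy m).hom.left ≫ (fst A B).left = (fst A B * (snd A B ≫ m)).left := by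
    rw [← Over.comp_left, GrothLib.MaxOpen.shearBy, lift_fst]
  rw [← e]
  infer_instance

theorem lfp_translate {A B : Over S} [GrpObj A] [LocallyOfFinitePresentation B.hom] (m : B ⟶ A) :
    LocallyOfFinitePresentation (fst A B * (snd A B ≫ m)).left := by
  haveI : IsIso (GrothLib.MaxOpen.shearBy m).hom.left :=
    inferInstanceAs (IsIso ((Over.forget S).map (GrothLib.MaxOpen.shearBy m).hom))
  haveI : LocallyOfFinitePresentation (fst A B).left :=
    MorphismProperty.pullback_fst (P := @LocallyOfFinitePresentation) A.hom B.hom inferInstance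
  have e : (GrothLib.MaxOpen.shearBy m).hom.left ≫ (fst A B).left = (fst A B * (snd A B ≫ m)).left := by
    rw [← Over.comp_left, GrothLib.MaxOpen.shearBy, lift_fst]
  rw [← e]
  infer_instance

/-- A homomorphism flat at one point is flat. -/
theorem flat_hom_of_flat_at [Flat G.hom] (x : G.left) (h : (u.left.stalkMap x).hom.Flat) : Flat u.left := by
  refine Flat.of_stalkMap _ fun g => ?_
  obtain ⟨z, hz₁, hz₂⟩ := exists_shift x g
  have h1 := flat_translate (A := G) (𝟙 G)
  have h2 := flat_translate (A := H) u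
  rw [Category.comp_id] at h1
  have e : (fst G G * snd G G).left ≫ u.left = (u ▷ G).left ≫ (fst H G * (snd H G ≫ u)).left := by
    rw [← Over.comp_left, ← Over.comp_left]
    simp [MonObj.mul_comp, MonObj.comp_mul]
  rw [← hz₂]
  exact flat_stalkMap_translate ((GrothLib.GrpSchField.isPullback_whiskerRight u G).map (Over.forget S)) e z
    (by rw [← hz₁] at h; exact h)

/-- A homomorphism of finite presentation on a nonempty open is of finite presentation. -/
theorem lfp_hom_of_open [Flat G.hom] [LocallyOfFinitePresentation G.hom] (W : G.left.Opens)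
    (hW : (W : Set G.left).Nonempty) (h : LocallyOfFinitePresentation (W.ι ≫ u.left)) :
    LocallyOfFinitePresentation u.left := by
  obtain ⟨x, hx⟩ := hW
  let O : (G ⊗ G).left.Opens := (fst G G).left ⁻¹ᵁ W
  have h1 := flat_translate (A := G) (𝟙 G)
  have h1' := lfp_translate (A := G) (𝟙 G)
  rw [Category.comp_id] at h1 h1'
  have h2 := lfp_translate (A := H) u
  haveI : Surjective (O.ι ≫ (fst G G * snd G G).left) := ⟨fun g => by
    obtain ⟨z, hz₁, hz₂⟩ := exists_shift x g
    exact ⟨⟨z, show (fst G G).left z ∈ W from hz₁ ▸ hx⟩, hz₂⟩⟩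
  haveI : LocallyOfFinitePresentation (O.ι ≫ (u ▷ G).left) := by
    have sq := (GrothLib.GrpSchField.isPullback_whiskerRight u G).map (Over.forget S)
    exact MorphismProperty.of_isPullback ((isPullback_morphismRestrict (fst G G).left W).paste_vert sq.flip) h
  refine GrothLib.FppfSource.fppfSourceDescends_lfp (O.ι ≫ (fst G G * snd G G).left) _ inferInstance inferInstance
    inferInstance ?_
  have e : (fst G G * snd G G).left ≫ u.left = (u ▷ G).left ≫ (fst H G * (snd H G ≫ u)).left := by
    rw [← Over.comp_left, ← Over.comp_left]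
    simp [MonObj.mul_comp, MonObj.comp_mul]
  rw [Category.assoc, e, ← Category.assoc]
  infer_instance

end group

/-- An orbit map flat at one point is flat. -/
theorem flat_orbitMap_of_flat_at {G X : Over S} [GrpObj G] [Flat G.hom] (a : AlgGrp.Action G X)
    (s₀ : 𝟙_ (Over S) ⟶ X) (x : G.left) (h : ((a.orbitMap s₀).left.stalkMap x).hom.Flat) :
    Flat (a.orbitMap s₀).left := by
  refine Flat.of_stalkMap _ fun g => ?_
  obtain ⟨w, hw₁, hw₂⟩ := exists_pair g x
  let k : G ⊗ G ⟶ G ⊗ G := lift (fst G G * (snd G G)⁻¹) (snd G G)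
  let z := k.left w
  have hz₁ : (snd G G).left z = x := by rw [← Scheme.Hom.comp_apply, ← Over.comp_left, lift_snd, hw₂]
  have hz₂ : μ[G].left z = g := by
    have e : k ≫ μ[G] = fst G G := by
      rw [← lift_fst_snd_mul]
      simp [k, MonObj.comp_mul]
    rw [← Scheme.Hom.comp_apply, ← Over.comp_left, e, hw₁]
  haveI : Flat μ[G].left := GrothLib.GrpSchField.mul_property @Flat inferInstance
  haveI : Flat a.act.left := GrothLib.GrpSchField.act_property @Flat a inferInstance
  have e : μ[G].left ≫ (a.orbitMap s₀).left = (G ◁ a.orbitMap s₀).left ≫ a.act.left := by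
    rw [← Over.comp_left, ← Over.comp_left]
    congr 1
    apply GrothLib.GrpSchField.hom_ext_points₂
    intro T g h
    simp only [AlgGrp.Action.orbitMap, lift_whiskerLeft_assoc, comp_lift_assoc, comp_toUnit_assoc,
      Category.comp_id, ← Hom.mul_def, GrothLib.GrpSchField.act_mul, Category.assoc]
  have sq : IsPullback (G ◁ a.orbitMap s₀).left (snd G G).left (snd G X).left (a.orbitMap s₀).left := by
    refine (IsPullback.of_bot ?_ ?_ (IsPullback.of_hasPullback G.hom X.hom).flip).flip
    · rw [show (G ◁ a.orbitMap s₀).left ≫ pullback.fst G.hom X.hom = (fst G G).left from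
        congrArg (fun t => t.left) (whiskerLeft_fst G (a.orbitMap s₀)), Over.w (a.orbitMap s₀)]
      exact (IsPullback.of_hasPullback G.hom G.hom).flip
    · exact (congrArg (fun t => t.left) (whiskerLeft_snd G (a.orbitMap s₀))).symm
  rw [← hz₂]
  exact flat_stalkMap_translate sq e z (by rw [← hz₁] at h; exact h)
where
  lift_fst_snd_mul {G : Over S} [GrpObj G] : fst G G * snd G G = μ[G] := by
    rw [Hom.mul_def, lift_fst_snd, Category.id_comp]

end GrothLib.FibreLocus
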