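import Groth.Agent.Lib.GrpSchField.HomFlat
import Mathlib.AlgebraicGeometry.Morphisms.FlatDescent

/-!
A property of a homomorphism of group schemes over a field holding near one point holds everywhere.
-/

universe u

open CategoryTheory CategoryTheory.Limits MonoidalCategory CartesianMonoidalCategory MonObj GrpObj
open AlgebraicGeometry

namespace GrothLib.FibreLocus

variable (P : MorphismProperty Scheme.{u}) [P.IsStableUnderBaseChange] [IsZariskiLocalAtSource P]

theorem prop_translate_open {X Y : Scheme.{u}} (F : X ⟶ Y) (α : X ≅ X) (β : Y ≅ Y) (h : α.hom ≫ F = F ≫ β.hom)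
    (U : X.Opens) (hU : P (U.ι ≫ F)) : P ((α.hom ⁻¹ᵁ U).ι ≫ F) := by
  have e : (α.hom ⁻¹ᵁ U).ι ≫ F = ((α.hom ∣_ U) ≫ U.ι ≫ F) ≫ β.inv := by
    rw [morphismRestrict_ι_assoc, h, Category.assoc, Category.assoc, β.hom_inv_id, Category.comp_id]
  rw [e, P.cancel_right_of_respectsIso, P.cancel_left_of_respectsIso]
  exact hU

variable [P.DescendsAlong (@Surjective ⊓ @Flat ⊓ @QuasiCompact)] {K : Type u} [Field K]

set_option backward.isDefEq.respectTransparency false in
/-- A homomorphism which has the property on a nonempty open has it everywhere. -/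
theorem prop_of_nhd {G H : Over (Spec (CommRingCat.of K))} [GrpObj G] [GrpObj H] [LocallyOfFiniteType G.hom]
    (f : G ⟶ H) [IsMonHom f] (U : G.left.Opens) (hU : (U : Set G.left).Nonempty) (hP : P (U.ι ≫ f.left)) :
    P f.left := by
  let b : Spec (CommRingCat.of (AlgebraicClosure K)) ⟶ Spec (CommRingCat.of K) :=
    Spec.map (CommRingCat.ofHom (algebraMap K (AlgebraicClosure K)))
  let A : Over (Spec (CommRingCat.of K)) := Over.mk b
  let pG : (A ⊗ G).left ⟶ Spec (CommRingCat.of (AlgebraicClosure K)) := pullback.fst b G.hom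
  haveI : LocallyOfFiniteType pG := inferInstanceAs (LocallyOfFiniteType (pullback.fst b G.hom))
  haveI := LocallyOfFiniteType.jacobsonSpace pG
  have sq := GrothLib.GrpSchField.whiskerLeft_snd_isPullback A f
  haveI : Surjective (snd A G).left := inferInstanceAs (Surjective (pullback.snd b G.hom))
  haveI : Surjective (snd A H).left := inferInstanceAs (Surjective (pullback.snd b H.hom))
  haveI : Flat (snd A H).left := inferInstanceAs (Flat (pullback.snd b H.hom))
  haveI : QuasiCompact (snd A H).left := inferInstanceAs (QuasiCompact (pullback.snd b H.hom))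
  refine MorphismProperty.of_isPullback_of_descendsAlong (Q := @Surjective ⊓ @Flat ⊓ @QuasiCompact)
    sq ⟨⟨inferInstance, inferInstance⟩, inferInstance⟩ ?_
  let F := (A ◁ f).left
  let U' : (A ⊗ G).left.Opens := (snd A G).left ⁻¹ᵁ U
  have hU'P : P (U'.ι ≫ F) :=
    P.of_isPullback ((isPullback_morphismRestrict (snd A G).left U).paste_vert sq.flip) hP
  have hU'ne : (U' : Set (A ⊗ G).left).Nonempty := by
    obtain ⟨x, hx⟩ := hU
    obtain ⟨z, rfl⟩ := (snd A G).left.surjective x
    exact ⟨z, hx⟩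
  obtain ⟨y₀, hy₀, hy₀c⟩ := nonempty_inter_closedPoints hU'ne U'.2.isLocallyClosed
  let pt : (A ⟶ G) → ↥(A ⊗ G).left :=
    fun x => (lift (𝟙 A) x).left (IsLocalRing.closedPoint (AlgebraicClosure K))
  have key : ∀ z ∈ closedPoints ↥(A ⊗ G).left, ∃ x : A ⟶ G, pt x = z := by
    intro z hz
    let s := pointOfClosedPoint pG z hz
    let x : A ⟶ G := Over.homMk (s ≫ (snd A G).left) (by
      show (s ≫ pullback.snd b G.hom) ≫ G.hom = b
      rw [Category.assoc, ← pullback.condition, pointOfClosedPoint_comp_assoc])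
    refine ⟨x, ?_⟩
    have hs : (lift (𝟙 A) x).left = s := by
      apply pullback.hom_ext (f := b) (g := G.hom)
      · exact (congrArg CommaMorphism.left (lift_fst (𝟙 A) x)).trans (pointOfClosedPoint_comp pG z hz).symm
      · exact congrArg CommaMorphism.left (lift_snd (𝟙 A) x)
    show (lift (𝟙 A) x).left _ = z
    rw [hs]
    exact pointOfClosedPoint_apply pG z hz _
  let mk : ∀ (H : Over (Spec (CommRingCat.of K))) [GrpObj H] (_ : A ⟶ H), A ⊗ H ≅ A ⊗ H :=
    fun H _ t => { hom := lift (fst A H) ((fst A H ≫ t) * snd A H)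
                   inv := lift (fst A H) ((fst A H ≫ t)⁻¹ * snd A H)
                   hom_inv_id := by apply CartesianMonoidalCategory.hom_ext <;> simp [MonObj.comp_mul, GrpObj.comp_inv, ← _root_.mul_assoc]
                   inv_hom_id := by apply CartesianMonoidalCategory.hom_ext <;> simp [MonObj.comp_mul, GrpObj.comp_inv, ← _root_.mul_assoc] }
  have hcomm : ∀ t : A ⟶ G, (mk G t).hom.left ≫ F = F ≫ (mk H (t ≫ f)).hom.left := fun t => by
    show (mk G t).hom.left ≫ (A ◁ f).left = (A ◁ f).left ≫ (mk H (t ≫ f)).hom.left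
    rw [← Over.comp_left, ← Over.comp_left]
    congr 1
    apply CartesianMonoidalCategory.hom_ext <;> simp [mk, MonObj.mul_comp, MonObj.comp_mul]
  let V : (A ⟶ G) → (A ⊗ G).left.Opens := fun t => (mk G t).hom.left ⁻¹ᵁ U'
  have hV : iSup V = ⊤ := by
    rw [← TopologicalSpace.Opens.coe_eq_univ, ← not_ne_iff, ← Set.nonempty_compl]
    intro H
    obtain ⟨z, hz, hzc⟩ := nonempty_inter_closedPoints H (iSup V).2.isClosed_compl.isLocallyClosed
    obtain ⟨x, rfl⟩ := key z hzc
    obtain ⟨x₀, hx₀⟩ := key y₀ hy₀c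
    refine hz ?_
    simp only [TopologicalSpace.Opens.coe_iSup, Set.mem_iUnion]
    refine ⟨x₀ * x⁻¹, ?_⟩
    show (mk G (x₀ * x⁻¹)).hom.left (pt x) ∈ U'
    have : (mk G (x₀ * x⁻¹)).hom.left (pt x) = y₀ := by
      rw [← hx₀]
      show (mk G (x₀ * x⁻¹)).hom.left ((lift (𝟙 A) x).left _) = _
      rw [← Scheme.Hom.comp_apply, ← Over.comp_left]
      refine congrArg (fun g : A ⟶ A ⊗ G => g.left (IsLocalRing.closedPoint (AlgebraicClosure K))) ?_
      apply CartesianMonoidalCategory.hom_ext <;> simp [mk, MonObj.comp_mul, _root_.mul_assoc]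
    rw [this]
    exact hy₀
  rw [IsZariskiLocalAtSource.iff_of_iSup_eq_top (P := P) V hV]
  exact fun t => prop_translate_open P F ((Over.forget _).mapIso (mk G t))
    ((Over.forget _).mapIso (mk H (t ≫ f))) (hcomm t) U' hU'P

end GrothLib.FibreLocus
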