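import Groth.Agent.Lib.Hopf.EtaleOrder
import Groth.Agent.Lib.FibreFlat.Fibrewise
import Mathlib.AlgebraicGeometry.Morphisms.FlatRank
import Mathlib.AlgebraicGeometry.Morphisms.QuasiFinite
import Mathlib.AlgebraicGeometry.Group.Affine
import Mathlib.RingTheory.Finiteness.ModuleFinitePresentation

/-!
Finite (or quasi-finite) flat group schemes of invertible order are étale.
-/

universe u

open CategoryTheory Limits MonoidalCategory CartesianMonoidalCategory MonObj GrpObj AlgebraicGeometry

namespace GrothLib.FibreLocus

/-- A finite group scheme over a field of order prime to the characteristic is étale. -/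
theorem etale_of_finrank_field {K : Type u} [Field K] (H : Over (Spec (CommRingCat.of K))) [GrpObj H]
    [IsFinite H.hom] (hn : ∀ x, (Scheme.Hom.finrank H.hom x : K) ≠ 0) : Etale H.hom := by
  have haff : IsAffine H.left := isAffine_of_isAffineHom H.hom
  obtain ⟨A', ⟨e⟩⟩ := (essImage_hopfSpec (R := CommRingCat.of K) (G := Grp.mk H)).2 haff
  obtain ⟨A, rfl⟩ : ∃ A, Opposite.op A = A' := ⟨A'.unop, rfl⟩
  let P : Over (Spec (CommRingCat.of K)) :=
    (Spec (CommRingCat.of (A : Type u))).asOver (Spec (CommRingCat.of K))
  let i : P ≅ H := (Grp.forget _).mapIso e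
  have hP : P.hom = i.hom.left ≫ H.hom := (Over.w i.hom).symm
  haveI : IsFinite (Spec.map (CommRingCat.ofHom (algebraMap K A))) := by
    have : IsFinite P.hom := by rw [hP]; infer_instance
    exact this
  haveI : Module.Finite K A := RingHom.finite_algebraMap.1 ((IsFinite.SpecMap_iff _).1 ‹_›)
  haveI : Module.FinitePresentation K (A : Type u) := Module.finitePresentation_of_finite K A
  have hrk : (Module.finrank K (A : Type u) : K) ≠ 0 := by
    let q : PrimeSpectrum K := IsLocalRing.closedPoint K
    have h1 : Module.rankAtStalk (R := K) (A : Type u) q = Scheme.Hom.finrank H.hom q := by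
      rw [← Scheme.Hom.finrank_SpecMap_algebraMap]
      change Scheme.Hom.finrank P.hom q = _
      rw [hP, Scheme.Hom.finrank_comp_left_of_isIso]
    rw [Module.rankAtStalk_eq_finrank_of_free] at h1
    exact (show Module.finrank K (A : Type u) = _ from h1) ▸ hn q
  haveI : Algebra.FormallyUnramified K A := GrothLib.Hopf.EtaleOrder.etale_of_finrank_ne_zero hrk
  haveI : Algebra.FinitePresentation K A :=
    Algebra.FinitePresentation.of_finiteType.1 inferInstance
  haveI : Algebra.Etale K A := Algebra.Etale.of_formallyUnramified_of_flat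
  have : Etale P.hom := (HasRingHomProperty.Spec_iff (P := @Etale)).mpr (RingHom.etale_algebraMap.mpr ‹_›)
  rw [hP, MorphismProperty.cancel_left_of_respectsIso @Etale] at this
  exact this

/-- A quasi-finite flat group scheme with fibres of invertible order is étale. -/
theorem etale_of_finrank_fibres {S : Scheme.{u}} (G : Over S) [GrpObj G]
    [LocallyQuasiFinite G.hom] [QuasiCompact G.hom] [Flat G.hom] [LocallyOfFinitePresentation G.hom]
    (h : ∀ (s : S) (x : ↥(Spec (S.residueField s))),
      ((pullback.snd G.hom (S.fromSpecResidueField s)).finrank x : S.residueField s) ≠ 0) :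
    Etale G.hom := by
  haveI : LocallyOfFinitePresentation (G.hom ≫ 𝟙 S) := by rw [Category.comp_id]; infer_instance
  haveI : Flat (G.hom ≫ 𝟙 S) := by rw [Category.comp_id]; infer_instance
  refine GrothLib.FibreFlat.etale_of_fibrewise G.hom (𝟙 S) fun s => ?_
  let b : Spec (CommRingCat.of (S.residueField s)) ⟶ S := S.fromSpecResidueField s
  let : GrpObj (Over.mk G.hom) := (inferInstance : GrpObj G)
  let : GrpObj (Over.mk (pullback.snd G.hom b)) := Over.grpObjMkPullbackSnd
  haveI : LocallyQuasiFinite (pullback.snd G.hom b) := inferInstance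
  haveI : LocallyOfFiniteType (pullback.snd G.hom b) := inferInstance
  haveI : IsFinite (Over.mk (pullback.snd G.hom b)).hom :=
    IsFinite.of_locallyQuasiFinite (pullback.snd G.hom b)
  have : Etale (pullback.snd G.hom b) := etale_of_finrank_field (Over.mk (pullback.snd G.hom b)) (h s)
  have e : Scheme.Hom.fiberι (𝟙 S) s = Scheme.Hom.fiberToSpecResidueField (𝟙 S) s ≫ b := by
    rw [← Category.comp_id (Scheme.Hom.fiberι (𝟙 S) s)]
    exact pullback.condition
  rw [e, ← MorphismProperty.cancel_left_of_respectsIso @Etale
    (pullbackLeftPullbackSndIso G.hom b (Scheme.Hom.fiberToSpecResidueField (𝟙 S) s)).hom,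
    pullbackLeftPullbackSndIso_hom_snd]
  exact MorphismProperty.pullback_snd _ _ this

end GrothLib.FibreLocus
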