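import Groth.Agent.Lib.FibreLocus.Hom
import Groth.Agent.Lib.GrpSchField.HomFlat
import Groth.Agent.Lib.GrpSchField.Open
import Groth.Agent.Lib.Rigidity.SmoothGroup
import Mathlib.AlgebraicGeometry.Morphisms.QuasiFinite
import Mathlib.AlgebraicGeometry.Geometrically.Connected

/-!
Isogenies of group schemes are detected on fibres.
-/

universe u

open CategoryTheory Limits AlgebraicGeometry MonoidalCategory CartesianMonoidalCategory MonObj GrpObj

namespace GrothLib.FibreLocus

variable {K : Type u} [Field K]

/-- A flat quasi-finite homomorphism to a connected group over a field is finite and surjective. -/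
theorem finite_surjective_of_flat_lqf {G H : Over (Spec (CommRingCat.of K))} [GrpObj G] [GrpObj H]
    [PreconnectedSpace H.left] (f : G ⟶ H) [IsMonHom f] [Flat f.left] [LocallyOfFinitePresentation f.left]
    [LocallyQuasiFinite f.left] [QuasiCompact f.left] : IsFinite f.left ∧ Surjective f.left := by
  have hs : Surjective f.left := by
    have ho : IsOpen (Set.range f.left) := f.left.isOpenMap.isOpen_range
    have hc := GrothLib.GrpSchField.isClosed_range_of_isLocallyClosed f ho.isLocallyClosed
    have hne : (Set.range f.left).Nonempty := ⟨_, η[G].left (IsLocalRing.closedPoint K), rfl⟩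
    exact ⟨Set.range_eq_univ.mp (IsClopen.eq_univ ⟨hc, ho⟩ hne)⟩
  refine ⟨?_, hs⟩
  let Kr := pullback f η[H]
  let κ : Kr ⟶ G := pullback.fst f η[H]
  have hκ : κ ≫ f = toUnit Kr ≫ η[H] := by
    rw [pullback.condition]
    congr 1
    exact Subsingleton.elim _ _
  have hker : IsPullback κ.left (pullback.snd f η[H]).left f.left η[H].left :=
    (IsPullback.of_hasPullback f η[H]).map (Over.forget _)
  have hK : IsFinite Kr.hom := by
    have e : (pullback.snd f η[H]).left = Kr.hom := by
      have := Over.w (pullback.snd f η[H])
      exact (Category.comp_id _).symm.trans this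
    have h1 : LocallyQuasiFinite Kr.hom := e ▸ MorphismProperty.of_isPullback hker ‹_›
    have h2 : QuasiCompact Kr.hom := e ▸ MorphismProperty.of_isPullback hker ‹_›
    exact IsFinite.of_locallyQuasiFinite Kr.hom
  -- the kernel pair is a product with the kernel
  have hsq : IsPullback (fst G Kr) (fst G Kr * (snd G Kr ≫ κ)) f f := by
    have w : fst G Kr ≫ f = (fst G Kr * (snd G Kr ≫ κ)) ≫ f := by
      rw [MonObj.mul_comp, Category.assoc, hκ, ← Category.assoc, Subsingleton.elim (snd G Kr ≫ toUnit Kr) (toUnit _),
        ← Hom.one_def, _root_.mul_one]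
    have hl : ∀ s : PullbackCone f f, (s.fst⁻¹ * s.snd) ≫ f = toUnit s.pt ≫ η[H] := fun s => by
      rw [MonObj.mul_comp, GrpObj.inv_comp, s.condition, inv_mul_cancel, Hom.one_def]
    refine IsPullback.of_isLimit' ⟨w⟩ (PullbackCone.IsLimit.mk _
      (fun s => lift s.fst (pullback.lift (s.fst⁻¹ * s.snd) (toUnit s.pt) (hl s))) (fun s => lift_fst _ _)
      (fun s => ?_) (fun s m h1 h2 => ?_))
    · rw [MonObj.comp_mul, lift_fst, lift_snd_assoc]
      show s.fst * (pullback.lift _ _ (hl s) ≫ pullback.fst f η[H]) = s.snd
      rw [pullback.lift_fst, mul_inv_cancel_left]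
    · refine CartesianMonoidalCategory.hom_ext _ _ (by simpa using h1) ?_
      rw [lift_snd]
      refine pullback.hom_ext ?_ (Subsingleton.elim _ _)
      rw [pullback.lift_fst, ← h1, ← h2, MonObj.comp_mul, inv_mul_cancel_left]
      exact Category.assoc _ _ _
  have hfst : IsFinite (fst G Kr).left := MorphismProperty.pullback_fst (P := @IsFinite) G.hom Kr.hom hK
  exact MorphismProperty.of_isPullback_of_descendsAlong (P := @IsFinite)
    (Q := @Surjective ⊓ @Flat ⊓ @QuasiCompact) (hsq.map (Over.forget _)) ⟨⟨hs, ‹_›⟩, ‹_›⟩ hfst

/-- A homomorphism of smooth connected group schemes is an isogeny iff it is finite and surjective on fibres. -/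
theorem isogeny_iff_fibres {S : Scheme.{u}} {G H : Over S} [GrpObj G] [GrpObj H]
    [Smooth G.hom] [IsSeparated G.hom] [QuasiCompact G.hom]
    [Smooth H.hom] [IsSeparated H.hom] [QuasiCompact H.hom] [GeometricallyConnected H.hom]
    (f : G ⟶ H) [IsMonHom f] :
    (Flat f.left ∧ LocallyQuasiFinite f.left ∧ LocallyOfFinitePresentation f.left) ↔
      ∀ s : S, IsFinite (pullback.snd f.left (H.hom.fiberι s)) ∧ Surjective (pullback.snd f.left (H.hom.fiberι s)) := by
  have hlfp : LocallyOfFinitePresentation f.left := lfp_left f
  have : QuasiCompact (f.left ≫ H.hom) := by rw [Over.w f]; infer_instance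
  have : QuasiCompact f.left := QuasiCompact.of_comp f.left H.hom
  constructor
  · rintro ⟨hfl, hqf, -⟩ s
    let k := S.fromSpecResidueField s
    letI : GrpObj ((Over.pullback k).obj G) := Functor.grpObjObj
    letI : GrpObj ((Over.pullback k).obj H) := Functor.grpObjObj
    let fs := (Over.pullback k).map f
    have sq := (isPullback_map_left f k).flip
    have : Flat fs.left := MorphismProperty.of_isPullback sq ‹_›
    have : LocallyQuasiFinite fs.left := MorphismProperty.of_isPullback sq ‹_›
    have : LocallyOfFinitePresentation fs.left := MorphismProperty.of_isPullback sq ‹_›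
    have : QuasiCompact fs.left := MorphismProperty.of_isPullback sq ‹_›
    have : PreconnectedSpace ((Over.pullback k).obj H).left := by
      have hc : GeometricallyConnected ((Over.pullback k).obj H).hom :=
        MorphismProperty.pullback_snd _ _ ‹GeometricallyConnected H.hom›
      exact (GeometricallyConnected.connectedSpace_of_subsingleton (f := ((Over.pullback k).obj H).hom)).toPreconnectedSpace
    have hm : IsMonHom fs := inferInstance
    obtain ⟨h1, h2⟩ := @finite_surjective_of_flat_lqf (S.residueField s) _ ((Over.pullback k).obj G) ((Over.pullback k).obj H) _ _ _ fs hm _ _ _ _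
    exact ⟨(prop_fibre_iff (P := @IsFinite) f s).mpr h1, (prop_fibre_iff (P := @Surjective) f s).mpr h2⟩
  · intro h
    have hflat : ∀ x : G.left, (f.left.stalkMap x).hom.Flat := fun x => by
      refine flat_at_of_fibre f x ?_
      obtain ⟨h1, h2⟩ := h (G.hom x)
      refine (prop_fibre_iff (P := @Flat) f _).mpr ?_
      let k := S.fromSpecResidueField (G.hom x)
      letI : GrpObj ((Over.pullback k).obj G) := Functor.grpObjObj
      letI : GrpObj ((Over.pullback k).obj H) := Functor.grpObjObj
      let fs := (Over.pullback k).map f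
      have : IsFinite fs.left := (prop_fibre_iff (P := @IsFinite) f _).mp h1
      have : Surjective fs.left := (prop_fibre_iff (P := @Surjective) f _).mp h2
      have : Smooth ((Over.pullback k).obj G).hom := MorphismProperty.pullback_snd _ _ ‹Smooth G.hom›
      have : Smooth ((Over.pullback k).obj H).hom := MorphismProperty.pullback_snd _ _ ‹Smooth H.hom›
      have : IsReduced ((Over.pullback k).obj H).left :=
        GrothLib.Rigidity.isReduced_of_smooth (K := S.residueField (G.hom x)) ((Over.pullback k).obj H).hom
      have hm : IsMonHom fs := inferInstance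
      have : LocallyOfFiniteType ((Over.pullback k).obj G).hom := inferInstance
      have : LocallyOfFiniteType ((Over.pullback k).obj H).hom := inferInstance
      exact @GrothLib.GrpSchField.flat_hom (S.residueField (G.hom x)) _ ((Over.pullback k).obj G) ((Over.pullback k).obj H) _ _ _ _ _ fs hm _ _
    refine ⟨Flat.of_stalkMap _ hflat, LocallyQuasiFinite.of_fiberToSpecResidueField (f := f.left) fun y => ?_, hlfp⟩
    obtain ⟨z, hz⟩ : ∃ z, f.left z = y := by
      obtain ⟨y', hy'⟩ : ∃ y', H.hom.fiberι (H.hom y) y' = y := ⟨H.hom.asFiber y, H.hom.fiberι_asFiber y⟩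
      obtain ⟨w, hw⟩ := (h (H.hom y)).2.surj y'
      refine ⟨pullback.fst f.left (H.hom.fiberι (H.hom y)) w, ?_⟩
      rw [← Scheme.Hom.comp_apply, pullback.condition, Scheme.Hom.comp_apply, hw, hy']
    subst hz
    have := prop_fiber_of_fibre (P := @IsFinite) (u := f) z (h _).1
    infer_instance

end GrothLib.FibreLocus
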